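import Groth.Agent.Lib.Equidim6.CondT
import Groth.Agent.Lib.FibreGen6.Valuation
import Groth.Agent.Lib.HTop.Val
import Groth.Agent.Lib.AffDom.FibreDim
import Mathlib.AlgebraicGeometry.Morphisms.UniversallyOpen

/-!
# Condition (T): criteria on fibre-maximal points, universally open morphisms
-/

set_option autoImplicit false
set_option linter.style.haveILetI false

universe u

open CategoryTheory CategoryTheory.Limits AlgebraicGeometry TopologicalSpace GrothLib.AffDom

namespace GrothLib.Equidim6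

variable {X S : Scheme.{u}}

theorem nonneg_fibreDimAt' (f : X ⟶ S) (x : X) : (0 : WithBot ℕ∞) ≤ FlatMor.fibreDimAt f x :=
  le_iInf fun U => Order.krullDim_nonneg_iff.2
    ⟨⟨closure {⟨_, U.2⟩}, isIrreducible_singleton.closure, isClosed_closure⟩⟩

/-- On an irreducible source the fibre dimension is smallest at the generic point. -/
theorem generic_le_fibreDimAt (f : X ⟶ S) [LocallyOfFiniteType f] [IrreducibleSpace X] (x : X) :
    FlatMor.fibreDimAt f (genericPoint X) ≤ FlatMor.fibreDimAt f x := by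
  obtain ⟨n, -, hn⟩ := resTrdeg_eq_fibreDimAt_of_maximal f (genericPoint X)
    fun z hz => (hz.antisymm (genericPoint_specializes z)).eq
  rw [hn]
  cases n with
  | zero => rw [Nat.cast_zero]; exact nonneg_fibreDimAt' f x
  | succ k =>
    by_contra hlt
    have hk : FlatMor.fibreDimAt f x ≤ (k : WithBot ℕ∞) := by
      revert hlt
      generalize FlatMor.fibreDimAt f x = d
      intro hlt
      cases d with
      | bot => exact bot_le
      | coe v =>
        cases v with
        | top => exact absurd (WithBot.coe_le_coe.2 le_top) hlt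
        | coe j =>
          have : ¬ k + 1 ≤ j := fun h' => hlt (by exact_mod_cast h')
          exact_mod_cast (show j ≤ k by omega)
    have hmem : FlatMor.fibreDimAt f (genericPoint X) ≤ (k : WithBot ℕ∞) :=
      (genericPoint_specializes x).mem_open (GrothLib.FibreDimAt6.isOpen_fibreDimAt_le f k) hk
    rw [hn] at hmem
    exact absurd (show k + 1 ≤ k by exact_mod_cast hmem) (by omega)

/-- Equidimensionality of an irreducible scheme over a base. -/
theorem isEquidimAt_of_irreducible (f : X ⟶ S) [LocallyOfFiniteType f] [IrreducibleSpace X] (x : X)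
    (hT : closure (Set.range f) ∈ irreducibleComponents (S : Type u))
    (hd : FlatMor.fibreDimAt f x ≤ FlatMor.fibreDimAt f (genericPoint X)) : EGA43.IsEquidimAt f x := by
  obtain ⟨e, -, he⟩ := resTrdeg_eq_fibreDimAt_of_maximal f (genericPoint X)
    fun z hz => (hz.antisymm (genericPoint_specializes z)).eq
  let U : X.Opens := ⟨_, GrothLib.FibreDimAt6.isOpen_fibreDimAt_le f e⟩
  have hxU : x ∈ U := hd.trans he.le
  haveI : Nonempty (U : Scheme.{u}) := ⟨⟨x, hxU⟩⟩
  haveI : IrreducibleSpace (U : Scheme.{u}) := U.ι.isOpenEmbedding.irreducibleSpace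
  refine ⟨e, U, hxU, fun Z hZ => ⟨_, hT, subset_closure ⟨x, rfl⟩, ?_⟩, fun x' => ?_⟩
  · haveI : IrreducibleSpace ↥U := ‹IrreducibleSpace (U : Scheme.{u})›
    rw [irreducibleComponents_eq_singleton, Set.mem_singleton_iff] at hZ
    subst hZ
    refine Set.Subset.antisymm (closure_mono ?_) (closure_minimal ?_ isClosed_closure)
    · rintro _ ⟨v, -, rfl⟩; exact ⟨U.ι v, rfl⟩
    · rintro _ ⟨y, rfl⟩
      have hgen : genericPoint X ∈ U := (genericPoint_specializes x).mem_open U.2 hxU
      exact ((genericPoint_specializes y).map f.continuous).mem_closed isClosed_closure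
        (subset_closure ⟨⟨_, hgen⟩, trivial, rfl⟩)
  · haveI : LocallyOfFiniteType ((U.ι ≫ f).fiberToSpecResidueField ((U.ι ≫ f) x')) :=
      MorphismProperty.pullback_snd (U.ι ≫ f) _ inferInstance
    refine (equidim_iff (K := S.residueField ((U.ι ≫ f) x')) ((U.ι ≫ f).fiberToSpecResidueField _) e).2
      fun z => (localDim_asFiber (U.ι ≫ f) _ z).trans ?_
    set v := (U.ι ≫ f).fiberι ((U.ι ≫ f) x') z
    rw [GrothLib.CMMor6.fibreDimAt_comp_flat_lqf U.ι f v]
    exact le_antisymm v.2 (he.ge.trans (generic_le_fibreDimAt f _))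

theorem exists_maximal_localDim {K : Type u} [Field K] (q : X ⟶ Spec (CommRingCat.of K))
    [LocallyOfFiniteType q] (x : X) :
    ∃ η : X, η ⤳ x ∧ (∀ z, z ⤳ η → z = η) ∧ FlatMor.localDim X x = FlatMor.localDim X η := by
  haveI : IsLocallyNoetherian X := LocallyOfFiniteType.isLocallyNoetherian q
  obtain ⟨k, hk⟩ : ∃ k : ℕ, Order.coheight x = k := by
    have hfin : ringKrullDim (X.presheaf.stalk x) < ⊤ := ringKrullDim_lt_top
    rw [ringKrullDim_stalk_eq_coheight] at hfin
    exact ⟨_, (ENat.coe_toNat (WithBot.coe_lt_coe.1 hfin).ne).symm⟩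
  obtain ⟨p, hp, hlen⟩ := Order.exists_series_of_le_coheight x hk.ge
  have hchain : ∀ i : Fin (p.length + 1), p i ⤳ x ∧ ((i : ℕ) : WithBot ℕ∞) + ptDim x ≤ ptDim (p i) := by
    intro i
    induction i using Fin.induction with
    | zero =>
      rw [show p 0 = x from hp]
      exact ⟨specializes_rfl, by simp⟩
    | succ i ih =>
      have hlt : p i.castSucc < p i.succ := p.strictMono (Fin.castSucc_lt_succ (i := i))
      have hsp : p i.succ ⤳ p i.castSucc := Scheme.le_iff_specializes.1 hlt.le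
      refine ⟨hsp.trans ih.1, ?_⟩
      have hstrict := ptDim_lt_of_specializes q hsp hlt.ne'
      obtain ⟨a, ha⟩ := exists_nat_ptDim q (p i.castSucc)
      obtain ⟨b, hb⟩ := exists_nat_ptDim q (p i.succ)
      obtain ⟨c, hc⟩ := exists_nat_ptDim q x
      have h2 := ih.2
      rw [ha, hc, ← Nat.cast_add, Nat.cast_le] at h2
      rw [ha, hb, Nat.cast_lt] at hstrict
      rw [hb, hc, ← Nat.cast_add, Nat.cast_le, Fin.val_succ]
      have : ((i.castSucc : Fin (p.length + 1)) : ℕ) = i := rfl
      omega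
  obtain ⟨η, hη, hmax⟩ := exists_maximal_point (p (Fin.last p.length))
  have hηx : η ⤳ x := hη.trans (hchain _).1
  refine ⟨η, hηx, hmax, le_antisymm ?_ (eq_of_specializes_of_localDim q hηx)⟩
  rw [localDim_of_maximal q η hmax, GrothLib.AffDom.localDim_eq q x, ringKrullDim_stalk_eq_coheight, hk,
    add_comm]
  refine le_trans ?_ (ptDim_mono hη)
  refine le_trans (le_of_eq ?_) (hchain (Fin.last p.length)).2
  rw [Fin.val_last, hlen]
  rfl

/-- Every point has a fibre-maximal generisation with the same fibre dimension. -/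
theorem exists_fibre_maximal (f : X ⟶ S) [LocallyOfFiniteType f] (x : X) :
    ∃ x₀, f x₀ = f x ∧ x₀ ⤳ x ∧ (∀ z, f z = f x → z ⤳ x₀ → z = x₀) ∧
      FlatMor.fibreDimAt f x = FlatMor.fibreDimAt f x₀ := by
  haveI : LocallyOfFiniteType (f.fiberToSpecResidueField (f x)) := MorphismProperty.pullback_snd f _ inferInstance
  obtain ⟨η, hη, hmax, hdim⟩ :=
    exists_maximal_localDim (K := S.residueField (f x)) (f.fiberToSpecResidueField (f x)) (f.asFiber x)
  refine ⟨f.fiberι (f x) η, (f.range_fiberι (f x)).le ⟨η, rfl⟩,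
    (hη.map (f.fiberι (f x)).continuous).trans (specializes_of_eq (f.fiberι_asFiber x)), fun z hz hs => ?_, ?_⟩
  · obtain ⟨z', rfl⟩ := (f.range_fiberι (f x)).ge hz
    rw [hmax z' ((f.fiberι (f x)).isEmbedding.isInducing.specializes_iff.1 hs)]
  · rw [← localDim_asFiber f (f x) η, ← hdim]
    rfl

theorem fibreDimAt_eq_resTrdeg (f : X ⟶ S) [LocallyOfFiniteType f] (x : X)
    (h : ∀ z, f z = f x → z ⤳ x → z = x) :
    ∃ n : ℕ, Dual3.resTrdeg f x = n ∧ FlatMor.fibreDimAt f x = n := by
  obtain ⟨n, hn, hd⟩ := GrothLib.Altitude.exists_trdeg_eq_dim_closure f x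
  haveI : LocallyOfFiniteType (f.fiberToSpecResidueField (f x)) := MorphismProperty.pullback_snd f _ inferInstance
  refine ⟨n, hn, ?_⟩
  rw [FlatMor.fibreDimAt]
  refine (localDim_of_maximal (K := S.residueField (f x)) (f.fiberToSpecResidueField (f x)) _ fun z hz => ?_).trans hd
  apply (f.fiberι (f x)).isEmbedding.injective
  rw [f.fiberι_asFiber]
  exact h _ ((f.range_fiberι (f x)).le ⟨z, rfl⟩)
    ((hz.map (f.fiberι (f x)).continuous).trans (specializes_of_eq (f.fiberι_asFiber x)))

/-- A closed immersion does not change the fibre dimension at points maximal in their fibre. -/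
theorem fibreDimAt_closedImmersion_eq {Z : Scheme.{u}} (ι : Z ⟶ X) [IsClosedImmersion ι] (f : X ⟶ S)
    [LocallyOfFiniteType f] (w : Z) (h : ∀ z, f z = f (ι w) → z ⤳ ι w → z = ι w) :
    FlatMor.fibreDimAt (ι ≫ f) w = FlatMor.fibreDimAt f (ι w) := by
  obtain ⟨n, hn, hn'⟩ := fibreDimAt_eq_resTrdeg (ι ≫ f) w fun z hz hs => by
    apply ι.isEmbedding.injective
    exact h _ (by simpa only [Scheme.Hom.comp_apply] using hz) (hs.map ι.continuous)
  obtain ⟨m, hm, hm'⟩ := fibreDimAt_eq_resTrdeg f (ι w) h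
  rw [GrothLib.AlgSp.resTrdeg_comp, GrothLib.AlgSp.resTrdeg_eq_zero_of_lqf ι, add_zero, hm] at hn
  rw [hn', hm', Nat.cast_injective hn]

/-- Condition (T) at a point follows from a good component through a fibre-maximal generisation. -/
theorem conditionT_of_generic (f : X ⟶ S) [LocallyOfFiniteType f] {x x₀ : X} (hsp : x₀ ⤳ x)
    (hdim : FlatMor.fibreDimAt f x = FlatMor.fibreDimAt f x₀)
    (η : X) (hη : ∀ z, z ⤳ η → z = η) (hηx : η ⤳ x₀)
    (hT : closure (f '' closure {η}) ∈ irreducibleComponents (S : Type u))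
    (hle : FlatMor.fibreDimAt f x₀ ≤ FlatMor.fibreDimAt f η) :
    ∃ W : Closeds X, (W : Set X) ∈ irreducibleComponents (X : Type u) ∧
      ∃ w : ↥((Scheme.IdealSheafData.vanishingIdeal W).subscheme),
        (Scheme.IdealSheafData.vanishingIdeal W).subschemeι.base w = x ∧
        EGA43.IsEquidimAt ((Scheme.IdealSheafData.vanishingIdeal W).subschemeι ≫ f) w := by
  let W : Closeds X := ⟨closure {η}, isClosed_closure⟩
  let ι := (Scheme.IdealSheafData.vanishingIdeal W).subschemeι
  have hrange : Set.range ι = closure {η} := GrothLib.RedSub.range_subschemeι_vanishingIdeal W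
  haveI : IrreducibleSpace (Scheme.IdealSheafData.vanishingIdeal W).subscheme :=
    (GrothLib.GeomComp6.isIrreducible_range_iff ι ι.isEmbedding).mp
      (hrange.symm ▸ isIrreducible_singleton.closure)
  obtain ⟨w, hw⟩ := hrange.ge (hηx.trans hsp).mem_closure
  refine ⟨W, closure_mem_components hη, w, hw, isEquidimAt_of_irreducible _ w ?_ ?_⟩
  · have : Set.range (ι ≫ f) = f '' closure {η} := by
      rw [← hrange, ← Set.range_comp]; rfl
    rw [this]; exact hT
  · have hgen : ι (genericPoint _) = η := by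
      obtain ⟨v, hv⟩ := hrange.ge (subset_closure rfl)
      refine hη _ ?_
      rw [← hv]
      exact (genericPoint_specializes v).map ι.continuous
    have h2 := fibreDimAt_closedImmersion_eq ι f (genericPoint _) (fun z _ hz => by
      rw [hgen] at hz ⊢; exact hη z hz)
    rw [hgen] at h2
    rw [h2]
    refine (GrothLib.AbsApprox.fibreDimAt_le_of_isClosedImmersion ι f (ι ≫ f) rfl w).trans ?_
    rw [show ι w = x from hw, hdim]
    exact hle

theorem conditionT_of_fibre_maximal (f : X ⟶ S) [LocallyOfFiniteType f]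
    (h : ∀ x : X, (∀ x' : X, f x' = f x → x ∈ closure ({x'} : Set X) → x' = x) →
      ∃ W : Closeds X, (W : Set X) ∈ irreducibleComponents (X : Type u) ∧
      ∃ w : ↥((Scheme.IdealSheafData.vanishingIdeal W).subscheme),
        (Scheme.IdealSheafData.vanishingIdeal W).subschemeι.base w = x ∧
        EGA43.IsEquidimAt ((Scheme.IdealSheafData.vanishingIdeal W).subschemeι ≫ f) w) (x : X) :
    ∃ W : Closeds X, (W : Set X) ∈ irreducibleComponents (X : Type u) ∧
      ∃ w : ↥((Scheme.IdealSheafData.vanishingIdeal W).subscheme),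
        (Scheme.IdealSheafData.vanishingIdeal W).subschemeι.base w = x ∧
        EGA43.IsEquidimAt ((Scheme.IdealSheafData.vanishingIdeal W).subschemeι ≫ f) w := by
  obtain ⟨x₀, hf, hsp, hmax, hdim⟩ := exists_fibre_maximal f x
  have hmax' : ∀ z, f z = f x₀ → z ⤳ x₀ → z = x₀ := fun z hz => hmax z (hz.trans hf)
  obtain ⟨W, hW, w₀, hw₀, e, U, hwU, hdom, hd⟩ := h x₀ fun z hz hs => hmax' z hz (specializes_iff_mem_closure.2 hs)
  let ι := (Scheme.IdealSheafData.vanishingIdeal W).subschemeι
  have hw₀' : ι w₀ = x₀ := hw₀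
  have hrange : Set.range ι = (W : Set X) := GrothLib.RedSub.range_subschemeι_vanishingIdeal W
  haveI : IrreducibleSpace (Scheme.IdealSheafData.vanishingIdeal W).subscheme :=
    (GrothLib.GeomComp6.isIrreducible_range_iff ι ι.isEmbedding).mp (hrange.symm ▸ hW.1)
  set γ := genericPoint ↥(Scheme.IdealSheafData.vanishingIdeal W).subscheme with hγ
  have hη : IsGenericPoint (ι γ) (W : Set X) := by
    have h1 := (genericPoint_spec ↥(Scheme.IdealSheafData.vanishingIdeal W).subscheme).image ι.continuous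
    rw [Set.image_univ, hrange, W.isClosed.closure_eq] at h1
    exact h1
  have hηmax : ∀ z, z ⤳ ι γ → z = ι γ := fun z hz => by
    have hsub : (W : Set X) ⊆ closure {z} := by
      rw [← hη.def]
      exact closure_minimal (Set.singleton_subset_iff.2 hz.mem_closure) isClosed_closure
    exact ((show IsGenericPoint z (W : Set X) from
      Set.Subset.antisymm (hW.2 isIrreducible_singleton.closure hsub) hsub).eq hη)
  have hdims : ∀ v, v ∈ U → FlatMor.fibreDimAt (ι ≫ f) v = (e : WithBot ℕ∞) := by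
    intro v hv
    haveI : LocallyOfFiniteType ((U.ι ≫ ι ≫ f).fiberToSpecResidueField ((U.ι ≫ ι ≫ f) ⟨v, hv⟩)) :=
      MorphismProperty.pullback_snd _ _ inferInstance
    refine (GrothLib.CMMor6.fibreDimAt_comp_flat_lqf U.ι (ι ≫ f) ⟨v, hv⟩).symm.trans ?_
    exact (equidim_iff (K := S.residueField ((U.ι ≫ ι ≫ f) ⟨v, hv⟩))
      ((U.ι ≫ ι ≫ f).fiberToSpecResidueField _) e).1 (hd ⟨v, hv⟩) ((U.ι ≫ ι ≫ f).asFiber ⟨v, hv⟩)
  have hγU : γ ∈ U := (genericPoint_specializes w₀).mem_open U.2 hwU
  refine conditionT_of_generic f hsp hdim (ι γ) hηmax (hη.specializes (hrange.le ⟨w₀, hw₀'⟩)) ?_ ?_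
  · rw [hη.def]
    haveI : Nonempty (U : Scheme.{u}) := ⟨⟨w₀, hwU⟩⟩
    haveI : IrreducibleSpace (U : Scheme.{u}) := U.ι.isOpenEmbedding.irreducibleSpace
    haveI : IrreducibleSpace ↥U := ‹IrreducibleSpace (U : Scheme.{u})›
    obtain ⟨T, hT, -, hTe⟩ := hdom Set.univ (by rw [irreducibleComponents_eq_singleton]; rfl)
    suffices closure (f '' (W : Set X)) = T by rw [this]; exact hT
    rw [← hTe]
    refine Set.Subset.antisymm (closure_minimal ?_ isClosed_closure) (closure_mono ?_)
    · rintro _ ⟨y, hy, rfl⟩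
      exact ((hη.specializes hy).map f.continuous).mem_closed isClosed_closure
        (subset_closure ⟨⟨γ, hγU⟩, trivial, rfl⟩)
    · rintro _ ⟨v, -, rfl⟩
      exact ⟨ι (U.ι v), hrange.le ⟨_, rfl⟩, rfl⟩
  · have h1 := fibreDimAt_closedImmersion_eq ι f w₀ (by rw [hw₀']; exact hmax')
    have h2 := fibreDimAt_closedImmersion_eq ι f γ (fun z _ hz => hηmax z hz)
    rw [hw₀', hdims w₀ hwU] at h1
    rw [hdims γ hγU] at h2
    rw [← h1, ← h2]

/-- An open morphism to the spectrum of a valuation ring has a point over the generic point above every point. -/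
theorem exists_generic_generization {W : CommRingCat.{u}} [IsDomain W] (p : X ⟶ Spec W) (hp : IsOpenMap p) (x : X) :
    ∃ z : X, p z = GrothLib.HTop.gen W ∧ z ⤳ x := by
  obtain ⟨_, ⟨(U : X.Opens), hU, rfl⟩, hxU, -⟩ :=
    X.isBasis_affineOpens.exists_subset_of_mem_open (Set.mem_univ x) isOpen_univ
  obtain ⟨q, hq⟩ := hU.range_fromSpec.ge hxU
  obtain ⟨φ, hφ⟩ := Spec.map_surjective (hU.fromSpec ≫ p)
  have hne : ∀ (r : W), r ≠ 0 → ∀ a : Γ(X, U), a ∉ q.asIdeal → φ.hom r * a ≠ 0 := by
    intro r hr a ha h0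
    have ho := hp _ (hU.fromSpec.isOpenEmbedding.isOpenMap _ (PrimeSpectrum.basicOpen a).2)
    have hx : p x ∈ p '' (hU.fromSpec '' (PrimeSpectrum.basicOpen a : Set (PrimeSpectrum Γ(X, U)))) :=
      ⟨x, ⟨q, ha, hq⟩, rfl⟩
    obtain ⟨_, ⟨v, hv, rfl⟩, hpv⟩ := (GrothLib.HTop.gen_specializes (p x)).mem_open ho hx
    have h1 : (Spec.map φ v).asIdeal = ⊥ := by
      rw [hφ, Scheme.Hom.comp_apply, hpv]
      rfl
    have h2 : φ.hom r ∈ v.asIdeal := by
      have := v.2.mem_or_mem (show φ.hom r * a ∈ v.asIdeal by rw [h0]; exact zero_mem _)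
      exact this.resolve_right hv
    have h3 : r ∈ (⊥ : Ideal W) := h1.le (show r ∈ (Spec.map φ v).asIdeal from h2)
    exact hr ((Submodule.mem_bot _).1 h3)
  let M : Submonoid Γ(X, U) := (nonZeroDivisors W).map φ.hom ⊔ q.asIdeal.primeCompl
  obtain ⟨P, hP, -, hPM⟩ := Ideal.exists_le_prime_disjoint (⊥ : Ideal Γ(X, U)) M (by
    rw [Set.disjoint_left]
    rintro m hm0 hm
    rw [SetLike.mem_coe, Submonoid.mem_sup] at hm
    obtain ⟨_, ⟨r, hr, rfl⟩, a, ha, rfl⟩ := hm
    exact hne r (nonZeroDivisors.ne_zero hr) a ha hm0)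
  refine ⟨hU.fromSpec ⟨P, hP⟩, ?_, ?_⟩
  · rw [← Scheme.Hom.comp_apply, ← hφ]
    refine PrimeSpectrum.ext ((le_antisymm (fun r hr => ?_) bot_le))
    by_contra hr0
    exact Set.disjoint_left.1 hPM hr
      (SetLike.mem_coe.2 ((le_sup_left : _ ≤ M) ⟨r, mem_nonZeroDivisors_of_ne_zero hr0, rfl⟩))
  · rw [← hq]
    refine ((PrimeSpectrum.le_iff_specializes (⟨P, hP⟩ : PrimeSpectrum Γ(X, U)) q).1 ?_).map hU.fromSpec.continuous
    intro a ha
    by_contra haq
    exact Set.disjoint_left.1 hPM ha (SetLike.mem_coe.2 ((le_sup_right : _ ≤ M) haq))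

theorem conditionT_of_universallyOpen (f : X ⟶ S) [LocallyOfFiniteType f] [UniversallyOpen f] (x : X) :
    ∃ W : Closeds X, (W : Set X) ∈ irreducibleComponents (X : Type u) ∧
      ∃ w : ↥((Scheme.IdealSheafData.vanishingIdeal W).subscheme),
        (Scheme.IdealSheafData.vanishingIdeal W).subschemeι.base w = x ∧
        EGA43.IsEquidimAt ((Scheme.IdealSheafData.vanishingIdeal W).subschemeι ≫ f) w := by
  obtain ⟨x₀, hf, hsp, hmax, hdim⟩ := exists_fibre_maximal f x
  obtain ⟨ζ, hζ, hζmax⟩ := exists_maximal_point (f x₀)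
  obtain ⟨R, _, _, τ, hτg, hτc⟩ := GrothLib.HTop.exists_valuationRing_map hζ
  let p := pullback.snd f τ
  have hpb : IsPullback (pullback.fst f τ) p f τ := IsPullback.of_hasPullback f τ
  haveI : LocallyOfFiniteType p := MorphismProperty.pullback_snd f τ inferInstance
  haveI : UniversallyOpen p := MorphismProperty.pullback_snd f τ inferInstance
  obtain ⟨x₁, hx₁, hx₁c⟩ := Scheme.Pullback.exists_preimage_pullback (f := f) (g := τ) x₀
    (GrothLib.HTop.closed R) hτc.symm
  -- a point of the closed fibre, maximal in it, of the same fibre dimension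
  obtain ⟨x₂, hpx₂, hx₂sp, hx₂max, hx₂dim⟩ := exists_fibre_maximal p x₁
  have hmax' : ∀ z, f z = f x₀ → z ⤳ x₀ → z = x₀ := fun z hz => hmax z (hz.trans hf)
  have hfp : ∀ v, f (pullback.fst f τ v) = τ (p v) := fun v => by
    rw [← Scheme.Hom.comp_apply, hpb.w, Scheme.Hom.comp_apply]
  have hfst : pullback.fst f τ x₂ = x₀ := hmax' _
    (by rw [hfp, hpx₂, ← hfp, hx₁])
    ((hx₂sp.map (pullback.fst f τ).continuous).trans (specializes_of_eq hx₁))
  obtain ⟨z, hz, hzsp⟩ := exists_generic_generization p p.isOpenMap x₂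
  have hle := GrothLib.FibreGen6.ptDim_le_of_specializes R p hzsp
  have hd1 : FlatMor.fibreDimAt f x₀ = ptDim (p.asFiber x₂) := by
    rw [← hx₁, ← GrothLib.AlgSp.fibreDimAt_of_isPullback hpb, hx₂dim]
    haveI : LocallyOfFiniteType (p.fiberToSpecResidueField (p x₂)) := MorphismProperty.pullback_snd p _ inferInstance
    refine localDim_of_maximal (K := (Spec R).residueField (p x₂)) (p.fiberToSpecResidueField (p x₂)) _ fun v hv => ?_
    apply (p.fiberι (p x₂)).isEmbedding.injective
    rw [p.fiberι_asFiber]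
    exact hx₂max _ (((p.range_fiberι (p x₂)).le ⟨v, rfl⟩).trans hpx₂)
      ((hv.map (p.fiberι (p x₂)).continuous).trans (specializes_of_eq (p.fiberι_asFiber x₂)))
  have hd2 : ptDim (p.asFiber z) ≤ FlatMor.fibreDimAt f (pullback.fst f τ z) := by
    haveI : LocallyOfFiniteType (p.fiberToSpecResidueField (p z)) := MorphismProperty.pullback_snd p _ inferInstance
    rw [← GrothLib.AlgSp.fibreDimAt_of_isPullback hpb, FlatMor.fibreDimAt,
      GrothLib.AffDom.localDim_eq (K := (Spec R).residueField (p z)) (p.fiberToSpecResidueField (p z))]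
    exact le_add_of_nonneg_right ringKrullDim_nonneg_of_nontrivial
  obtain ⟨η, hfη, hηsp, hηmax, hηdim⟩ := exists_fibre_maximal f (pullback.fst f τ z)
  have hfz : f (pullback.fst f τ z) = ζ := by
    rw [hfp, hz]; exact hτg
  have hηx₀ : η ⤳ x₀ := hηsp.trans
    ((hzsp.map (pullback.fst f τ).continuous).trans (specializes_of_eq hfst))
  have hηm : ∀ v, v ⤳ η → v = η := fun v hv => hηmax v (by
    rw [hfz]
    exact hζmax _ ((hv.map f.continuous).trans (specializes_of_eq (hfη.trans hfz)))) hv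
  refine conditionT_of_generic f hsp hdim η hηm hηx₀ ?_ ((hd1.trans_le (hle.trans hd2)).trans hηdim.le)
  rw [closure_image_closure f.continuous, Set.image_singleton, hfη, hfz]
  exact closure_mem_components hζmax

end GrothLib.Equidim6
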