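import Groth.Agent.Lib.Equidim6.Basic
import Groth.Agent.Lib.AffDom.FibreDim
import Groth.Agent.Lib.CMBasics.DimIneq
import Groth.Agent.Lib.CMMor6.BaseChange
import Groth.Agent.Lib.AlgSp.FibreDimBC
import Groth.Agent.Lib.FibreFlat.Fibrewise
import Groth.Prelude.Def_Cyc

/-!
# Relative dimension of composites and base changes
-/

set_option autoImplicit false
set_option linter.style.haveILetI false

universe u

open CategoryTheory CategoryTheory.Limits AlgebraicGeometry IsLocalRing GrothLib.AffDom

namespace GrothLib.Equidim6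

variable {X Y S : Scheme.{u}} {K : Type u} [Field K]

theorem hasRelDim_iff (f : X ⟶ Y) [LocallyOfFiniteType f] (n : ℕ) :
    Cyc.HasRelDim f n ↔ ∀ x : X, FlatMor.fibreDimAt f x = (n : WithBot ℕ∞) :=
  fibres_equidim_iff f n

theorem ringKrullDim_stalk_le_add (f : X ⟶ Y) [IsLocallyNoetherian X] [IsLocallyNoetherian Y] (x : X) :
    ringKrullDim (X.presheaf.stalk x) ≤ ringKrullDim (Y.presheaf.stalk (f x)) +
      ringKrullDim ((f.fiber (f x)).presheaf.stalk (f.asFiber x)) := by
  letI : Algebra (Y.presheaf.stalk (f x)) (X.presheaf.stalk x) := (f.stalkMap x).hom.toAlgebra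
  haveI : IsLocalHom (algebraMap (Y.presheaf.stalk (f x)) (X.presheaf.stalk x)) :=
    inferInstanceAs (IsLocalHom (f.stalkMap x).hom)
  obtain ⟨e⟩ := GrothLib.CMMor6.nonempty_fibQuot_equiv f x
  rw [← ringKrullDim_eq_of_ringEquiv e]
  exact GrothLib.CMBasics.ringKrullDim_le_add_fibre _ _

/-- Over a field the local dimension is at most the sum of those of the base and the fibre. -/
theorem localDim_le_add (f : X ⟶ Y) [LocallyOfFiniteType f] (q : Y ⟶ Spec (CommRingCat.of K))
    [LocallyOfFiniteType q] (x : X) :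
    FlatMor.localDim X x ≤ FlatMor.localDim Y (f x) + FlatMor.fibreDimAt f x ∧
      ((f.stalkMap x).hom.Flat →
        FlatMor.localDim X x = FlatMor.localDim Y (f x) + FlatMor.fibreDimAt f x) := by
  haveI : IsLocallyNoetherian Y := LocallyOfFiniteType.isLocallyNoetherian q
  haveI : IsLocallyNoetherian X := LocallyOfFiniteType.isLocallyNoetherian f
  haveI : LocallyOfFiniteType (f.fiberToSpecResidueField (f x)) := MorphismProperty.pullback_snd f _ inferInstance
  rw [GrothLib.AffDom.localDim_eq (f ≫ q) x, GrothLib.AffDom.localDim_eq q (f x), ptDim_eq_add f q x,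
    FlatMor.fibreDimAt,
    GrothLib.AffDom.localDim_eq (K := Y.residueField (f x)) (f.fiberToSpecResidueField (f x)) (f.asFiber x)]
  constructor
  · refine (add_le_add le_rfl (ringKrullDim_stalk_le_add f x)).trans (le_of_eq ?_)
    abel
  · intro h
    rw [GrothLib.CMMor6.ringKrullDim_stalk_eq_add f x h]
    abel

/-- The fibre dimension of a composite. -/
theorem fibreDimAt_comp_le (f : X ⟶ Y) (g : Y ⟶ S) [LocallyOfFiniteType f] [LocallyOfFiniteType g] (x : X) :
    FlatMor.fibreDimAt (f ≫ g) x ≤ FlatMor.fibreDimAt f x + FlatMor.fibreDimAt g (f x) ∧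
      ((f.stalkMap x).hom.Flat →
        FlatMor.fibreDimAt (f ≫ g) x = FlatMor.fibreDimAt f x + FlatMor.fibreDimAt g (f x)) := by
  let s := g (f x)
  let m : (f ≫ g).fiber s ⟶ g.fiber s := MoreMor.fiberMap f g s
  let e := pullbackRightPullbackFstIso g (S.fromSpecResidueField s) f
  have hsq : IsPullback ((f ≫ g).fiberι s) m f (g.fiberι s) := by
    refine (IsPullback.of_hasPullback f (g.fiberι s)).of_iso e (Iso.refl _) (Iso.refl _) (Iso.refl _)
      ?_ ?_ (by simp) (by simp)
    · simp only [Iso.refl_hom, Category.comp_id]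
      exact (pullbackRightPullbackFstIso_hom_fst g (S.fromSpecResidueField s) f).symm
    · simp only [Iso.refl_hom, Category.comp_id]
      exact (GrothLib.FibreFlat.fiberMap_comp_eq f g s).symm
  haveI : LocallyOfFiniteType m := MorphismProperty.of_isPullback (P := @LocallyOfFiniteType) hsq ‹_›
  haveI : LocallyOfFiniteType (g.fiberToSpecResidueField s) := MorphismProperty.pullback_snd g _ inferInstance
  have hz : (f ≫ g).fiberι s ((f ≫ g).asFiber x) = x := (f ≫ g).fiberι_asFiber x
  have hm : m ((f ≫ g).asFiber x) = g.asFiber (f x) := by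
    apply (g.fiberι s).isEmbedding.injective
    rw [← Scheme.Hom.comp_apply, ← hsq.w, Scheme.Hom.comp_apply]
    exact (congrArg f hz).trans (g.fiberι_asFiber (f x)).symm
  have hfib : FlatMor.fibreDimAt m ((f ≫ g).asFiber x) = FlatMor.fibreDimAt f x :=
    (GrothLib.AlgSp.fibreDimAt_of_isPullback hsq _).trans (congrArg (FlatMor.fibreDimAt f) hz)
  have key := localDim_le_add (K := S.residueField s) m (g.fiberToSpecResidueField s) ((f ≫ g).asFiber x)
  rw [hfib, congrArg (FlatMor.localDim (g.fiber s)) hm, add_comm] at key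
  refine ⟨key.1, fun h => key.2 ?_⟩
  refine GrothLib.CMMor6.flat_stalkMap_baseChange hsq _ ?_
  exact (congrArg (fun y => (f.stalkMap y).hom.Flat) hz).mpr h

theorem eq_of_specializes_of_localDim (q : X ⟶ Spec (CommRingCat.of K)) [LocallyOfFiniteType q] {x x' : X}
    (h : x ⤳ x') :
    FlatMor.localDim X x ≤ FlatMor.localDim X x' :=
  le_iInf fun U => GrothLib.NoethTop.localDim_le U.1 (h.mem_open U.1.2 U.2)

theorem ptDim_lt_of_specializes (q : X ⟶ Spec (CommRingCat.of K)) [LocallyOfFiniteType q] {x x' : X}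
    (h : x ⤳ x') (hne : x ≠ x') : ptDim x' < ptDim x :=
  lt_of_le_of_ne (ptDim_mono h) fun e => hne (eq_of_specializes_of_ptDim_le q h e.ge)

theorem stalk_dim_lt_of_specializes (q : X ⟶ Spec (CommRingCat.of K)) [LocallyOfFiniteType q] {x x' : X}
    (h : x ⤳ x') (hne : x ≠ x') :
    ringKrullDim (X.presheaf.stalk x) < ringKrullDim (X.presheaf.stalk x') := by
  haveI : IsLocallyNoetherian X := LocallyOfFiniteType.isLocallyNoetherian q
  rw [ringKrullDim_stalk_eq_coheight, ringKrullDim_stalk_eq_coheight, WithBot.coe_lt_coe]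
  refine Order.coheight_strictAnti (lt_of_le_not_ge ?_ fun h' => hne ?_) ?_
  · exact Scheme.le_iff_specializes.2 h
  · exact ((Scheme.le_iff_specializes.1 h').antisymm h).eq.symm
  · have hfin : ringKrullDim (X.presheaf.stalk x) < ⊤ := ringKrullDim_lt_top
    rw [ringKrullDim_stalk_eq_coheight] at hfin
    exact WithBot.coe_lt_coe.1 hfin

end GrothLib.Equidim6
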