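import Groth.Agent.Lib.FibreDimAt6.Scheme
import Groth.Agent.Lib.FibreDim6.Scheme
import Groth.Agent.Lib.AlgSp.FibreDimBC
import Groth.Agent.Lib.CMMor6.Chart

/-!
# The loci of bounded fibre dimension are retrocompact
-/

set_option autoImplicit false
set_option linter.style.haveILetI false

universe u

open CategoryTheory CategoryTheory.Limits AlgebraicGeometry

namespace GrothLib.Equidim6

theorem isCompact_fibreDimAt_le_affine {X S : Scheme.{u}} (f : X ⟶ S) [IsAffine X] [IsAffine S]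
    [LocallyOfFinitePresentation f] (n : ℕ) :
    IsCompact {x : X | FlatMor.fibreDimAt f x ≤ (n : WithBot ℕ∞)} := by
  letI := f.appTop.hom.toAlgebra
  have := GrothLib.Approx6.finitePresentation_appTop f
  obtain ⟨A₀, B₀, _, _, hA, -, hB, ⟨e⟩⟩ := GrothLib.Approx6.exists_model Γ(S, ⊤) Γ(X, ⊤) ∅
  have : Algebra.FiniteType ℤ A₀ := A₀.fg_iff_finiteType.mp hA
  have : IsNoetherianRing A₀ := Algebra.FiniteType.isNoetherianRing ℤ A₀
  haveI := GrothLib.Approx6.locallyOfFiniteType_map (A₀ := A₀) (B₀ := B₀)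
  obtain ⟨g, g', h⟩ := GrothLib.Approx6.isPullback_model f A₀ B₀ e
  haveI : IsNoetherianRing B₀ := Algebra.FiniteType.isNoetherianRing A₀ B₀
  let π := Spec.map (CommRingCat.ofHom (algebraMap A₀ B₀))
  have hset : {x : X | FlatMor.fibreDimAt f x ≤ (n : WithBot ℕ∞)} =
      g' ⁻¹' {w | FlatMor.fibreDimAt π w ≤ (n : WithBot ℕ∞)} :=
    Set.ext fun x => by
      simp only [Set.mem_setOf_eq, Set.mem_preimage]
      rw [GrothLib.AlgSp.fibreDimAt_of_isPullback h x]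
  rw [hset]
  haveI : TopologicalSpace.NoetherianSpace ↥(Spec (CommRingCat.of B₀)) :=
    inferInstanceAs (TopologicalSpace.NoetherianSpace (PrimeSpectrum B₀))
  exact QuasiCompact.isCompact_preimage _ (GrothLib.FibreDimAt6.isOpen_fibreDimAt_le π n)
    (TopologicalSpace.NoetherianSpace.isCompact _)

theorem isRetrocompact_fibreDimAt_le {X S : Scheme.{u}} (f : X ⟶ S) [LocallyOfFinitePresentation f] (n : ℕ) :
    IsRetrocompact {x : X | FlatMor.fibreDimAt f x ≤ (n : WithBot ℕ∞)} := by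
  intro K hK hKo
  obtain ⟨T, hTa, hTfin, hT⟩ : ∃ T : Set X.Opens, (∀ W ∈ T, IsAffineOpen W ∧ ∃ V : S.Opens, IsAffineOpen V ∧ W ≤ f ⁻¹ᵁ V) ∧
      T.Finite ∧ K = ⋃ W ∈ T, (W : Set X) := by
    have : ∀ x : K, ∃ W : X.Opens, (x : X) ∈ W ∧ (W : Set X) ⊆ K ∧ IsAffineOpen W ∧
        ∃ V : S.Opens, IsAffineOpen V ∧ W ≤ f ⁻¹ᵁ V := by
      intro x
      obtain ⟨_, ⟨(V : S.Opens), hV, rfl⟩, hxV, -⟩ :=
        S.isBasis_affineOpens.exists_subset_of_mem_open (Set.mem_univ (f x)) isOpen_univ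
      obtain ⟨_, ⟨(W : X.Opens), hW, rfl⟩, hxW, hsub⟩ := X.isBasis_affineOpens.exists_subset_of_mem_open
        (show (x : X) ∈ K ∩ f ⁻¹ᵁ V from ⟨x.2, hxV⟩) (hKo.inter (f ⁻¹ᵁ V).2)
      exact ⟨W, hxW, fun y hy => (hsub hy).1, hW, V, hV, fun y hy => (hsub hy).2⟩
    choose W hxW hWK hWa using this
    obtain ⟨t, ht⟩ := hK.elim_finite_subcover (fun x : K => (W x : Set X)) (fun x => (W x).2)
      (fun x hx => Set.mem_iUnion.2 ⟨⟨x, hx⟩, hxW ⟨x, hx⟩⟩)
    refine ⟨W '' (t : Set K), ?_, t.finite_toSet.image W, ?_⟩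
    · rintro _ ⟨x, -, rfl⟩; exact hWa x
    · refine Set.Subset.antisymm (fun y hy => ?_) (Set.iUnion₂_subset ?_)
      · obtain ⟨x, hx, hy⟩ := Set.mem_iUnion₂.1 (ht hy)
        exact Set.mem_biUnion ⟨x, hx, rfl⟩ hy
      · rintro _ ⟨x, -, rfl⟩; exact hWK x
  rw [hT, Set.inter_iUnion₂]
  refine hTfin.isCompact_biUnion fun W hW => ?_
  obtain ⟨hWa, V, hV, hWV⟩ := hTa W hW
  haveI : IsAffine (W : Scheme.{u}) := hWa
  haveI : IsAffine (V : Scheme.{u}) := hV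
  let f' : (W : Scheme.{u}) ⟶ (V : Scheme.{u}) := f.resLE V W hWV
  have hfd : ∀ w, FlatMor.fibreDimAt f' w = FlatMor.fibreDimAt f (W.ι w) := by
    intro w
    have hpb : IsPullback (f ⁻¹ᵁ V).ι (f ∣_ V) f V.ι := (isPullback_morphismRestrict f V).flip
    calc FlatMor.fibreDimAt f' w = FlatMor.fibreDimAt (X.homOfLE hWV ≫ f ∣_ V) w := rfl
      _ = FlatMor.fibreDimAt (f ∣_ V) (X.homOfLE hWV w) :=
        GrothLib.CMMor6.fibreDimAt_comp_flat_lqf _ _ w
      _ = FlatMor.fibreDimAt f ((f ⁻¹ᵁ V).ι (X.homOfLE hWV w)) :=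
        GrothLib.AlgSp.fibreDimAt_of_isPullback hpb _
      _ = _ := by rw [← Scheme.Hom.comp_apply, Scheme.homOfLE_ι]
  have hc := (isCompact_fibreDimAt_le_affine f' n).image W.ι.continuous
  convert hc using 1
  ext y
  constructor
  · rintro ⟨hy, hyW⟩
    exact ⟨⟨y, hyW⟩, (hfd _).trans_le hy, rfl⟩
  · rintro ⟨w, hw, rfl⟩
    exact ⟨(hfd w).symm.trans_le hw, w.2⟩

end GrothLib.Equidim6
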