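import Groth.Agent.Lib.CMMor6.LocalDim
import Groth.Agent.Lib.AffDom.LocalDim
import Groth.Agent.Lib.AffDom.PointDim
import Groth.Agent.Lib.Dim.Scheme

/-!
# Equidimensionality and flat morphisms of algebraic schemes
-/

set_option autoImplicit false
set_option linter.style.haveILetI false

universe u

open CategoryTheory CategoryTheory.Limits AlgebraicGeometry GrothLib.AffDom

namespace GrothLib.Equidim6

variable {X Y : Scheme.{u}} {K : Type u} [Field K]

theorem stalk_dim_eq_zero {W : Scheme.{u}} (w : W) (h : ∀ z : W, z ⤳ w → z = w) :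
    ringKrullDim (W.presheaf.stalk w) = 0 :=
  le_antisymm (GrothLib.CMMor6.ringKrullDim_stalk_le_zero w h) ringKrullDim_nonneg_of_nontrivial

theorem localDim_of_maximal (q : X ⟶ Spec (CommRingCat.of K)) [LocallyOfFiniteType q] (η : X)
    (h : ∀ z : X, z ⤳ η → z = η) : FlatMor.localDim X η = ptDim η := by
  rw [GrothLib.AffDom.localDim_eq q η, stalk_dim_eq_zero η h, add_zero]

/-- The dimension of an irreducible component is that of its generic point. -/
theorem exists_generic {Z : Set X} (hZ : Z ∈ irreducibleComponents (X : Type u)) :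
    ∃ η : X, (∀ z : X, z ⤳ η → z = η) ∧ topologicalKrullDim Z = ptDim η := by
  have hcl := isClosed_of_mem_irreducibleComponents Z hZ
  have hη := hZ.1.isGenericPoint_genericPoint hcl
  refine ⟨hZ.1.genericPoint, fun z hz => ?_, by rw [ptDim, hη.def]⟩
  have hsub : Z ⊆ closure {z} := by
    rw [← hη.def]
    exact closure_minimal (Set.singleton_subset_iff.2 hz.mem_closure) isClosed_closure
  have := Set.Subset.antisymm (hZ.2 isIrreducible_singleton.closure hsub) hsub
  exact ((show IsGenericPoint z Z from this).eq hη)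

theorem closure_mem_components {η : X} (h : ∀ z : X, z ⤳ η → z = η) :
    closure {η} ∈ irreducibleComponents (X : Type u) := by
  refine ⟨isIrreducible_singleton.closure, fun T hT hle => ?_⟩
  have hg := hT.isGenericPoint_genericPoint_closure
  have hs : hT.genericPoint ⤳ η := hg.specializes (subset_closure (hle (subset_closure rfl)))
  rw [h _ hs] at hg
  exact (subset_closure (s := T)).trans hg.def.ge

/-- An algebraic scheme is equidimensional iff its local dimension is constant. -/
theorem equidim_iff (q : X ⟶ Spec (CommRingCat.of K)) [LocallyOfFiniteType q] (n : ℕ) :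
    (∀ Z ∈ irreducibleComponents (X : Type u), topologicalKrullDim Z = (n : WithBot ℕ∞)) ↔
      ∀ x : X, FlatMor.localDim X x = (n : WithBot ℕ∞) := by
  constructor
  · intro h x
    obtain ⟨η, hηx, hη⟩ := exists_maximal_point x
    refine le_antisymm ((GrothLib.NoethTop.localDim_le_dim x).trans ?_) (le_iInf fun U => ?_)
    · rw [topologicalKrullDim_eq_iSup_ptDim]
      refine iSup_le fun z => ?_
      obtain ⟨ζ, hζz, hζ⟩ := exists_maximal_point z
      exact (ptDim_mono hζz).trans (h _ (closure_mem_components hζ)).le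
    · obtain ⟨m, hm, hmU⟩ := GrothLib.Dim.exists_nat_dim_irreducible q (S := closure {η}) isClosed_closure
        isIrreducible_singleton.closure
      have hne : (closure {η} ∩ ((⟨U.1, U.1.2⟩ : X.Opens) : Set X)).Nonempty := ⟨x, hηx.mem_closure, U.2⟩
      rw [← h _ (closure_mem_components hη), hm, ← hmU ⟨U.1, U.1.2⟩ hne]
      exact (Topology.IsEmbedding.inclusion (s := closure {η} ∩ (U.1 : Set X)) (t := (U.1 : Set X))
        Set.inter_subset_right).isInducing.topologicalKrullDim_le
  · intro h Z hZ
    obtain ⟨η, hη, hd⟩ := exists_generic hZ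
    rw [hd, ← localDim_of_maximal q η hη, h]

/-- For a flat morphism of algebraic schemes the local dimensions add up. -/
theorem localDim_flat (f : X ⟶ Y) [Flat f] [LocallyOfFiniteType f] (q : Y ⟶ Spec (CommRingCat.of K))
    [LocallyOfFiniteType q] (x : X) :
    FlatMor.localDim X x = FlatMor.localDim Y (f x) + FlatMor.fibreDimAt f x := by
  haveI : IsLocallyNoetherian Y := LocallyOfFiniteType.isLocallyNoetherian q
  haveI : IsLocallyNoetherian X := LocallyOfFiniteType.isLocallyNoetherian f
  haveI : LocallyOfFiniteType (f.fiberToSpecResidueField (f x)) := MorphismProperty.pullback_snd f _ inferInstance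
  rw [GrothLib.AffDom.localDim_eq (f ≫ q) x, GrothLib.AffDom.localDim_eq q (f x), ptDim_eq_add f q x,
    GrothLib.CMMor6.ringKrullDim_stalk_eq_add f x (Flat.stalkMap f x), FlatMor.fibreDimAt,
    GrothLib.AffDom.localDim_eq (K := Y.residueField (f x)) (f.fiberToSpecResidueField (f x)) (f.asFiber x)]
  abel

theorem localDim_asFiber (f : X ⟶ Y) (y : Y) (w : f.fiber y) :
    FlatMor.localDim (f.fiber y) w = FlatMor.fibreDimAt f (f.fiberι y w) := by
  have key : ∀ (v : Y) (p : f.fiber v), f.fiberι v p = f.fiberι y w →
      FlatMor.localDim (f.fiber v) p = FlatMor.fibreDimAt f (f.fiberι y w) := by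
    intro v p hp
    obtain rfl : v = f (f.fiberι y w) := by
      have hm : f.fiberι v p ∈ Set.range (f.fiberι v) := ⟨p, rfl⟩
      rw [Scheme.Hom.range_fiberι, hp] at hm
      exact hm.symm
    obtain rfl : p = f.asFiber (f.fiberι y w) :=
      (f.fiberι _).isEmbedding.injective (hp.trans (f.fiberι_asFiber _).symm)
    rfl
  exact key y w rfl

theorem fibres_equidim_iff (f : X ⟶ Y) [LocallyOfFiniteType f] (n : ℕ) :
    (∀ y : Y, ∀ Z ∈ irreducibleComponents (f.fiber y : Type u), topologicalKrullDim Z = (n : WithBot ℕ∞)) ↔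
      ∀ x : X, FlatMor.fibreDimAt f x = (n : WithBot ℕ∞) := by
  haveI : ∀ y, LocallyOfFiniteType (f.fiberToSpecResidueField y) := fun y =>
    MorphismProperty.pullback_snd f _ inferInstance
  constructor
  · intro h x
    exact (equidim_iff (K := Y.residueField (f x)) (f.fiberToSpecResidueField (f x)) n).1 (h (f x)) (f.asFiber x)
  · intro h y
    exact (equidim_iff (K := Y.residueField y) (f.fiberToSpecResidueField y) n).2 fun w =>
      (localDim_asFiber f y w).trans (h _)

theorem natCast_add_cancel {d n : ℕ} {e : WithBot ℕ∞} :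
    (d : WithBot ℕ∞) + e = ((d + n : ℕ) : WithBot ℕ∞) ↔ e = (n : WithBot ℕ∞) := by
  cases e with
  | bot =>
    refine iff_of_false ?_ (WithBot.natCast_ne_bot n).symm
    rw [WithBot.add_bot]
    exact (WithBot.natCast_ne_bot _).symm
  | coe v =>
    cases v with
    | top =>
      refine iff_of_false (fun h => ?_) fun h => ENat.top_ne_natCast n (WithBot.coe_inj.1 h)
      exact ENat.top_ne_natCast (d + n) ((add_top (d : ℕ∞)).symm.trans (WithBot.coe_inj.1 h))
    | coe k =>
      constructor
      · intro h
        have : d + k = d + n := by exact_mod_cast h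
        obtain rfl : k = n := by omega
        rfl
      · intro h
        have : k = n := by exact_mod_cast h
        subst this
        rfl

/-- Equidimensionality of source and fibres over an equidimensional base. -/
theorem equidim_iff_fibres (f : X ⟶ Y) [Flat f] [LocallyOfFiniteType f] (q : Y ⟶ Spec (CommRingCat.of K))
    [LocallyOfFiniteType q] (d n : ℕ) (hY : ∀ y : Y, FlatMor.localDim Y y = (d : WithBot ℕ∞)) :
    (∀ Z ∈ irreducibleComponents (X : Type u), topologicalKrullDim Z = ((d + n : ℕ) : WithBot ℕ∞)) ↔
      ∀ x : X, FlatMor.fibreDimAt f x = (n : WithBot ℕ∞) := by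
  rw [equidim_iff (f ≫ q) (d + n)]
  refine forall_congr' fun x => ?_
  rw [localDim_flat f q x, hY, natCast_add_cancel]

theorem exists_localDim_irreducible [IrreducibleSpace Y] (q : Y ⟶ Spec (CommRingCat.of K))
    [LocallyOfFiniteType q] :
    ∃ d : ℕ, topologicalKrullDim Y = (d : WithBot ℕ∞) ∧ ∀ y : Y, FlatMor.localDim Y y = (d : WithBot ℕ∞) := by
  obtain ⟨d, hd, -⟩ := GrothLib.Dim.exists_nat_dim_irreducible q (S := Set.univ) isClosed_univ
    (IrreducibleSpace.isIrreducible_univ _)
  have hu : topologicalKrullDim (Set.univ : Set Y) = topologicalKrullDim Y :=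
    IsHomeomorph.topologicalKrullDim_eq _ (Homeomorph.Set.univ Y).isHomeomorph
  refine ⟨d, hu ▸ hd, (equidim_iff q d).1 fun Z hZ => ?_⟩
  rw [irreducibleComponents_eq_singleton, Set.mem_singleton_iff] at hZ
  rw [hZ, hd]

/-- Irreducible components of the preimage of an irreducible closed set under a flat morphism with equidimensional fibres. -/
theorem dim_component_preimage (f : X ⟶ Y) [Flat f] [LocallyOfFiniteType f] (q : Y ⟶ Spec (CommRingCat.of K))
    [LocallyOfFiniteType q] (n : ℕ) (hn : ∀ x : X, FlatMor.fibreDimAt f x = (n : WithBot ℕ∞))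
    {V : Set Y} (hV : IsClosed V) (hVirr : IsIrreducible V)
    {W : Set (f.base ⁻¹' V)} (hW : W ∈ irreducibleComponents (f.base ⁻¹' V)) :
    topologicalKrullDim W = topologicalKrullDim V + (n : WithBot ℕ∞) := by
  have hWc := isClosed_of_mem_irreducibleComponents W hW
  have hirr : IsIrreducible (Subtype.val '' W) := hW.1.image _ continuous_subtype_val.continuousOn
  have hcl : IsClosed (Subtype.val '' W) :=
    (hV.preimage f.continuous).isClosedEmbedding_subtypeVal.isClosedMap _ hWc
  have hw := hirr.isGenericPoint_genericPoint hcl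
  set w := hirr.genericPoint
  obtain ⟨⟨w₀, hw₀V⟩, hw₀W, hw₀⟩ := hw.mem
  obtain rfl : w₀ = w := hw₀
  rename' hw₀V => hwV
  have hη := hVirr.isGenericPoint_genericPoint hV
  have hmax : ∀ z : X, z ⤳ w → f z ∈ V → z = w := by
    intro z hz hzV
    let z' : f.base ⁻¹' V := ⟨z, hzV⟩
    have hz' : z' ⤳ ⟨w, hwV⟩ := by rw [subtype_specializes_iff]; exact hz
    have hsub : W ⊆ closure {z'} := by
      intro a ha
      refine (specializes_iff_mem_closure (y := a)).1 (hz'.trans ?_)
      rw [subtype_specializes_iff]
      exact hw.specializes ⟨a, ha, rfl⟩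
    have := hW.2 isIrreducible_singleton.closure hsub
    exact (hw.specializes ⟨z', this (subset_closure rfl), rfl⟩).antisymm hz |>.symm.eq
  have hv : f w = hVirr.genericPoint := by
    obtain ⟨z, hz, hzη⟩ := Flat.generalizingMap f (hη.specializes hwV)
    rw [← hzη, hmax z hz (show f z ∈ V by rw [hzη]; exact hη.mem)]
  have hmaxF : ∀ z : f.fiber (f w), z ⤳ f.asFiber w → z = f.asFiber w := by
    intro z hz
    apply (f.fiberι (f w)).isEmbedding.injective
    rw [f.fiberι_asFiber]
    have hfz : f (f.fiberι (f w) z) = f w := (f.range_fiberι (f w)).le ⟨z, rfl⟩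
    exact hmax _ ((hz.map (f.fiberι (f w)).continuous).trans (specializes_of_eq (f.fiberι_asFiber w)))
      (by rw [hfz]; exact hwV)
  haveI : LocallyOfFiniteType (f.fiberToSpecResidueField (f w)) := MorphismProperty.pullback_snd f _ inferInstance
  have hn' : ptDim (f.asFiber w) = (n : WithBot ℕ∞) := by
    rw [← localDim_of_maximal (K := Y.residueField (f w)) (f.fiberToSpecResidueField (f w)) _ hmaxF]
    exact hn w
  calc topologicalKrullDim W = topologicalKrullDim (Subtype.val '' W : Set X) :=
        GrothLib.Dim.IsEmbedding.topologicalKrullDim_eq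
          (f := fun a : W => a.1.1) (Topology.IsEmbedding.subtypeVal.comp Topology.IsEmbedding.subtypeVal)
          (by ext y; simp)
    _ = ptDim w := by rw [ptDim, hw.def]
    _ = ptDim (f w) + ptDim (f.asFiber w) := ptDim_eq_add f q w
    _ = _ := by rw [hn', hv, ptDim, hη.def]

end GrothLib.Equidim6
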