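import Groth.Agent.Lib.Equidim6.RelDim
import Groth.Agent.Lib.AlgSp.FibreDimZero
import Groth.Agent.Lib.AbsApprox.EventualDim
import Groth.Agent.Lib.FibreDimAt6.Scheme
import Groth.Agent.Lib.RedSub.Basic
import Groth.Agent.Lib.GeomComp6.Irred
import Groth.Prelude.Def_EGA43

/-!
# An equidimensional morphism is equidimensional on the components
-/

set_option autoImplicit false
set_option linter.style.haveILetI false

universe u

open CategoryTheory CategoryTheory.Limits AlgebraicGeometry TopologicalSpace GrothLib.AffDom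

namespace GrothLib.Equidim6

variable {X S : Scheme.{u}}

theorem resTrdeg_eq_fibreDimAt_of_maximal (f : X ⟶ S) [LocallyOfFiniteType f] (x : X)
    (h : ∀ z : X, z ⤳ x → z = x) :
    ∃ n : ℕ, Dual3.resTrdeg f x = n ∧ FlatMor.fibreDimAt f x = n := by
  obtain ⟨n, hn, hd⟩ := GrothLib.Altitude.exists_trdeg_eq_dim_closure f x
  haveI : LocallyOfFiniteType (f.fiberToSpecResidueField (f x)) := MorphismProperty.pullback_snd f _ inferInstance
  refine ⟨n, hn, ?_⟩
  rw [FlatMor.fibreDimAt]
  refine (localDim_of_maximal (K := S.residueField (f x)) (f.fiberToSpecResidueField (f x)) _ fun z hz => ?_).trans hd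
  apply (f.fiberι (f x)).isEmbedding.injective
  rw [f.fiberι_asFiber]
  exact h _ ((hz.map (f.fiberι (f x)).continuous).trans (specializes_of_eq (f.fiberι_asFiber x)))

theorem conditionT_of_isEquidimAt (f : X ⟶ S) [LocallyOfFiniteType f] (x : X) (h : EGA43.IsEquidimAt f x) :
    ∃ W : Closeds X, (W : Set X) ∈ irreducibleComponents (X : Type u) ∧
      ∃ w : ↥((Scheme.IdealSheafData.vanishingIdeal W).subscheme),
        (Scheme.IdealSheafData.vanishingIdeal W).subschemeι.base w = x ∧
        EGA43.IsEquidimAt ((Scheme.IdealSheafData.vanishingIdeal W).subschemeι ≫ f) w := by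
  obtain ⟨e, U, hxU, hdom, hdim⟩ := h
  obtain ⟨Z, hZ, hxZ⟩ := exists_mem_irreducibleComponents_subset_of_isIrreducible {x} isIrreducible_singleton
  let W : Closeds X := ⟨Z, isClosed_of_mem_irreducibleComponents Z hZ⟩
  let ι := (Scheme.IdealSheafData.vanishingIdeal W).subschemeι
  have hrange : Set.range ι = Z := GrothLib.RedSub.range_subschemeι_vanishingIdeal W
  obtain ⟨w, hw⟩ := hrange.ge (hxZ rfl)
  let U' := ι ⁻¹ᵁ U
  have hwU' : w ∈ U' := by show ι w ∈ U; rw [hw]; exact hxU
  refine ⟨W, hZ, w, hw, e, U', hwU', ?_, ?_⟩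
  · haveI : IrreducibleSpace (Scheme.IdealSheafData.vanishingIdeal W).subscheme :=
      (GrothLib.GeomComp6.isIrreducible_range_iff ι ι.isEmbedding).mp (hrange.symm ▸ hZ.1)
    haveI : Nonempty (U' : Scheme.{u}) := ⟨⟨w, hwU'⟩⟩
    haveI : IrreducibleSpace (U' : Scheme.{u}) := U'.ι.isOpenEmbedding.irreducibleSpace
    haveI : IrreducibleSpace ↥U' := ‹IrreducibleSpace (U' : Scheme.{u})›
    intro Z' hZ'
    rw [irreducibleComponents_eq_singleton, Set.mem_singleton_iff] at hZ'
    subst hZ'
    have hc := preimage_mem_irreducibleComponents hZ U.ι.isOpenEmbedding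
      ⟨x, hxZ rfl, ⟨x, hxU⟩, rfl⟩
    obtain ⟨T, hT, hxT, hclo⟩ := hdom _ hc
    refine ⟨T, hT, ?_, ?_⟩
    · show (ι ≫ f) w ∈ T
      rw [Scheme.Hom.comp_apply, hw]; exact hxT
    · rw [← hclo]
      congr 1
      ext y
      constructor
      · rintro ⟨v, -, rfl⟩
        exact ⟨⟨ι v.1, v.2⟩, hrange.le ⟨_, rfl⟩, rfl⟩
      · rintro ⟨v, hv, rfl⟩
        obtain ⟨v', hv'⟩ := hrange.ge hv
        exact ⟨⟨v', show ι v' ∈ U by rw [hv']; exact v.2⟩, trivial, congrArg f hv'⟩
  · let c := ι ∣_ U
    let g := U'.ι ≫ ι ≫ f
    let hh := U.ι ≫ f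
    haveI : IsClosedImmersion c := MorphismProperty.of_isPullback (P := @IsClosedImmersion)
      (isPullback_morphismRestrict ι U).flip inferInstance
    have hg : c ≫ hh = g := by
      simp only [c, hh, g]
      rw [morphismRestrict_ι_assoc]
    haveI : LocallyOfFiniteType hh := inferInstance
    haveI : LocallyOfFiniteType g := inferInstance
    have hfd : ∀ u, FlatMor.fibreDimAt hh u = (e : WithBot ℕ∞) := fun u =>
      haveI : LocallyOfFiniteType (hh.fiberToSpecResidueField (hh u)) :=
        MorphismProperty.pullback_snd hh _ inferInstance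
      (equidim_iff (K := S.residueField (hh u)) (hh.fiberToSpecResidueField (hh u)) e).1 (hdim u) (hh.asFiber u)
    -- the generic point
    haveI : IrreducibleSpace (Scheme.IdealSheafData.vanishingIdeal W).subscheme :=
      (GrothLib.GeomComp6.isIrreducible_range_iff ι ι.isEmbedding).mp (hrange.symm ▸ hZ.1)
    haveI : Nonempty (U' : Scheme.{u}) := ⟨⟨w, hwU'⟩⟩
    haveI : IrreducibleSpace (U' : Scheme.{u}) := U'.ι.isOpenEmbedding.irreducibleSpace
    set η := genericPoint (U' : Scheme.{u})
    have hη : ∀ z, z ⤳ η → z = η := fun z hz => (hz.antisymm (genericPoint_specializes z)).eq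
    have hcη : ∀ z : (U : Scheme.{u}), z ⤳ c η → z = c η := by
      have hZg : IsGenericPoint (ι (U'.ι η)) Z := by
        have h1 := (genericPoint_spec (U' : Scheme.{u})).image (U'.ι ≫ ι).continuous
        have e1 : closure ((U'.ι ≫ ι) '' (⊤ : Set (U' : Scheme.{u}))) = Z := by
          rw [Set.top_eq_univ, Set.image_univ]
          refine subset_antisymm (closure_minimal ?_ W.isClosed) ?_
          · rintro _ ⟨v, rfl⟩; exact hrange.le ⟨U'.ι v, rfl⟩
          · intro y hy
            refine closure_mono ?_ (subset_closure_inter_of_isPreirreducible_of_isOpen hZ.1.2 U.2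
              ⟨x, hxZ rfl, hxU⟩ hy)
            rintro z ⟨hz, hzU⟩
            obtain ⟨v, rfl⟩ := hrange.ge hz
            exact ⟨⟨v, hzU⟩, rfl⟩
        rw [Set.top_eq_univ] at e1
        rw [e1] at h1
        exact h1
      intro z hz
      have hz' : U.ι z ⤳ ι (U'.ι η) := by
        have := hz.map U.ι.continuous
        rwa [show U.ι (c η) = ι (U'.ι η) from (Scheme.Hom.comp_apply _ _ _).symm.trans
          ((congrArg (fun k : (U' : Scheme.{u}) ⟶ X => k η) (morphismRestrict_ι ι U)).trans
            (Scheme.Hom.comp_apply _ _ _))] at this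
      apply U.ι.isEmbedding.injective
      rw [show U.ι (c η) = ι (U'.ι η) from (Scheme.Hom.comp_apply _ _ _).symm.trans
          ((congrArg (fun k : (U' : Scheme.{u}) ⟶ X => k η) (morphismRestrict_ι ι U)).trans
            (Scheme.Hom.comp_apply _ _ _))]
      have hsub : Z ⊆ closure {U.ι z} := by
        rw [← hZg.def]
        exact closure_minimal (Set.singleton_subset_iff.2 hz'.mem_closure) isClosed_closure
      exact ((show IsGenericPoint (U.ι z) Z from Set.Subset.antisymm
        (hZ.2 isIrreducible_singleton.closure hsub) hsub).eq hZg)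
    have hge : FlatMor.fibreDimAt g η = (e : WithBot ℕ∞) := by
      obtain ⟨n, hn, hn'⟩ := resTrdeg_eq_fibreDimAt_of_maximal g η hη
      obtain ⟨m, hm, hm'⟩ := resTrdeg_eq_fibreDimAt_of_maximal hh (c η) hcη
      rw [hfd] at hm'
      rw [hn', hm']
      have key : ∀ (k : (U' : Scheme.{u}) ⟶ S), c ≫ hh = k → Dual3.resTrdeg k η = m := by
        rintro k rfl
        rw [GrothLib.AlgSp.resTrdeg_comp, GrothLib.AlgSp.resTrdeg_eq_zero_of_lqf c, add_zero, hm]
      have hnm : (n : Cardinal.{u}) = m := hn.symm.trans (key g hg)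
      rw [Nat.cast_injective hnm]
    have hall : ∀ u, FlatMor.fibreDimAt g u = (e : WithBot ℕ∞) := by
      intro u
      refine le_antisymm ((GrothLib.AbsApprox.fibreDimAt_le_of_isClosedImmersion c hh g hg u).trans (hfd _).le) ?_
      cases e with
      | zero =>
        rw [Nat.cast_zero]
        exact le_iInf fun V => Order.krullDim_nonneg_iff.2
          ⟨⟨closure {⟨_, V.2⟩}, isIrreducible_singleton.closure, isClosed_closure⟩⟩
      | succ k =>
        by_contra hlt
        have hk : FlatMor.fibreDimAt g u ≤ (k : WithBot ℕ∞) := by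
          revert hlt
          generalize FlatMor.fibreDimAt g u = d
          intro hlt
          cases d with
          | bot => exact bot_le
          | coe v =>
            cases v with
            | top => exact absurd (WithBot.coe_le_coe.2 le_top) hlt
            | coe j =>
              have : ¬ k + 1 ≤ j := fun h' => hlt (by exact_mod_cast h')
              exact_mod_cast (show j ≤ k by omega)
        have hmem := (genericPoint_specializes u).mem_open (GrothLib.FibreDimAt6.isOpen_fibreDimAt_le g k) hk
        rw [Set.mem_setOf_eq, hge] at hmem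
        exact absurd (show k + 1 ≤ k by exact_mod_cast hmem) (by omega)
    intro x'
    haveI : LocallyOfFiniteType (g.fiberToSpecResidueField (g x')) :=
      MorphismProperty.pullback_snd g _ inferInstance
    exact (equidim_iff (K := S.residueField (g x')) (g.fiberToSpecResidueField (g x')) e).2
      fun z => (localDim_asFiber g _ z).trans (hall _)

end GrothLib.Equidim6
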